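import Groth.Agent.Lib.FunField.Embed
import Groth.Agent.Lib.FunField.Weights
import Groth.Agent.Lib.FunField.RR
import Mathlib.Algebra.Polynomial.Basis

/-!
# Involutions of function fields with rational quotient

For an involution `σ` of a function field of genus `g` over an algebraically closed field of
characteristic not two, `σ` fixes a coordinate of degree two exactly when it fixes `2g + 2` places.
-/

set_option autoImplicit false

open FunFld WithZero

namespace Groth.Agent.InvolFF17

open Groth.Agent.FunField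

variable {k K : Type*} [Field k] [Field K] [Algebra k K]

/-- The image of a place under an automorphism. -/
def plMap (σ : K ≃ₐ[k] K) (P : Place k K) : Place k K :=
  ⟨P.1.comap (σ : K →+* K), fun c => by simpa using P.2.1 c, P.2.2.comp σ.surjective⟩

theorem plMap_apply (σ : K ≃ₐ[k] K) (P : Place k K) (z : K) : (plMap σ P).1 z = P.1 (σ z) := rfl

/-- The fixed places. -/
def Fixed (σ : K ≃ₐ[k] K) : Set (Place k K) := {P | plMap σ P = P}

variable (σ : K ≃ₐ[k] K)

/-- Functions of `L(D)` fixed by `σ`. -/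
def Vp (D : Divisor k K) : Submodule k K :=
  FunFld.L D ⊓ LinearMap.ker (σ.toLinearMap - LinearMap.id)

/-- Functions of `L(D)` negated by `σ`. -/
def Vm (D : Divisor k K) : Submodule k K :=
  FunFld.L D ⊓ LinearMap.ker (σ.toLinearMap + LinearMap.id)

variable {σ}

theorem mem_Vp {D : Divisor k K} {z : K} : z ∈ Vp σ D ↔ z ∈ FunFld.L D ∧ σ z = z := by
  simp [Vp, sub_eq_zero]

theorem mem_Vm {D : Divisor k K} {z : K} : z ∈ Vm σ D ↔ z ∈ FunFld.L D ∧ σ z = -z := by
  simp [Vm, ← eq_neg_iff_add_eq_zero]

/-- The orbit divisor of a place. -/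
noncomputable def orb (σ : K ≃ₐ[k] K) (P : Place k K) : Divisor k K :=
  Finsupp.single P 1 + Finsupp.single (plMap σ P) 1

theorem orb_apply [DecidableEq (Place k K)] (P R : Place k K) :
    orb σ P R = (if R = P then 1 else 0) + (if R = plMap σ P then 1 else 0) := by
  simp [orb, Finsupp.single_apply, eq_comm]

variable (hσ : ∀ z, σ (σ z) = z)
include hσ

theorem plMap_plMap (P : Place k K) : plMap σ (plMap σ P) = P :=
  place_ext fun z => by rw [plMap_apply, plMap_apply, hσ]

theorem orb_plMap (P R : Place k K) : orb σ P (plMap σ R) = orb σ P R := by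
  classical
  rw [orb_apply, orb_apply]
  have h1 : plMap σ R = P ↔ R = plMap σ P :=
    ⟨fun h => by rw [← h, plMap_plMap hσ], fun h => by rw [h, plMap_plMap hσ]⟩
  have h2 : plMap σ R = plMap σ P ↔ R = P :=
    ⟨fun h => by rw [← plMap_plMap hσ R, h, plMap_plMap hσ], fun h => by rw [h]⟩
  simp only [h1, h2]
  ring

theorem map_mem_L {D : Divisor k K} (hD : ∀ P, D (plMap σ P) = D P) {z : K} (hz : z ∈ FunFld.L D) :
    σ z ∈ FunFld.L D := fun P => by
  rw [← plMap_apply, ← hD P]
  exact hz _

theorem finrank_split (hff : FF k K) (h2 : (2 : k) ≠ 0) {D : Divisor k K} (hD : ∀ P, D (plMap σ P) = D P) :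
    ell D = Module.finrank k (Vp σ D) + Module.finrank k (Vm σ D) := by
  haveI := finiteDimensional_L hff D
  haveI : FiniteDimensional k (Vp σ D) := Submodule.finiteDimensional_inf_left _ _
  haveI : FiniteDimensional k (Vm σ D) := Submodule.finiteDimensional_inf_left _ _
  have h2' : (2 : K) ≠ 0 := by
    rw [← map_ofNat (algebraMap k K) 2]
    exact fun h => h2 ((algebraMap k K).injective (h.trans (map_zero _).symm))
  have hinf : Vp σ D ⊓ Vm σ D = ⊥ := eq_bot_iff.2 fun z hz => by
    obtain ⟨⟨-, h1⟩, ⟨-, h1'⟩⟩ := And.intro (mem_Vp.1 hz.1) (mem_Vm.1 hz.2)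
    rw [Submodule.mem_bot]
    have : (2 : K) * z = 0 := by
      rw [two_mul]
      nth_rw 1 [← h1]
      rw [h1', neg_add_cancel]
    exact (mul_eq_zero.1 this).resolve_left h2'
  have hsup : Vp σ D ⊔ Vm σ D = FunFld.L D := by
    refine le_antisymm (sup_le inf_le_left inf_le_left) fun z hz => ?_
    have hmem := map_mem_L hσ hD hz
    refine Submodule.mem_sup.2 ⟨(2 : k)⁻¹ • (z + σ z), ?_, (2 : k)⁻¹ • (z - σ z), ?_, ?_⟩
    · exact mem_Vp.2 ⟨Submodule.smul_mem _ _ (add_mem hz hmem), by rw [map_smul, map_add, hσ, add_comm]⟩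
    · exact mem_Vm.2 ⟨Submodule.smul_mem _ _ (sub_mem hz hmem), by rw [map_smul, map_sub, hσ, ← smul_neg, neg_sub]⟩
    · rw [← smul_add, add_add_sub_cancel, ← two_smul k z, smul_smul, inv_mul_cancel₀ h2, one_smul]
  have h := Submodule.finrank_sup_add_finrank_inf_eq (Vp σ D) (Vm σ D)
  rw [hsup, hinf, finrank_bot, add_zero] at h
  exact h

variable [IsAlgClosed k]

/-- Invariant functions: at most one more dimension per orbit. -/
theorem finrank_Vp_le (hff : FF k K) {P₀ : Place k K} (hP₀ : plMap σ P₀ ≠ P₀) :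
    ∀ (m : ℕ) (E : Divisor k K), (∀ P, E (plMap σ P) = E P) → E.deg ≤ 2 * (m : ℤ) - 1 →
      Module.finrank k (Vp σ E) ≤ m := by
  classical
  intro m
  induction m with
  | zero =>
    intro E _ hdeg
    have : Vp σ E = ⊥ := eq_bot_iff.2 (inf_le_left.trans (L_eq_bot_of_deg_neg hff (by omega)).le)
    rw [this, finrank_bot]
  | succ m ih =>
    intro E hE hdeg
    haveI := finiteDimensional_L hff E
    haveI := finiteDimensional_L hff (E - Finsupp.single P₀ 1)
    haveI : FiniteDimensional k (Vp σ E) := Submodule.finiteDimensional_inf_left _ _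
    let E' := E - orb σ P₀
    have hE' : ∀ P, E' (plMap σ P) = E' P := fun P => by
      simp only [E', Finsupp.sub_apply, hE, orb_plMap hσ]
    have hd' : E'.deg = E.deg - 2 := by
      simp only [E', orb, deg_sub, deg_add, deg_single, deg_eq_one hff]
      norm_num
    haveI : FiniteDimensional k (Vp σ E') := by
      haveI := finiteDimensional_L hff E'
      exact Submodule.finiteDimensional_inf_left _ _
    have hle : Vp σ E ⊓ FunFld.L (E - Finsupp.single P₀ 1) ≤ Vp σ E' := fun z hz => by
      obtain ⟨⟨hzE, hzfix⟩, hzP⟩ := And.intro (mem_Vp.1 hz.1) hz.2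
      refine mem_Vp.2 ⟨fun R => ?_, hzfix⟩
      simp only [E', Finsupp.sub_apply, orb_apply]
      rcases eq_or_ne R (plMap σ P₀) with rfl | hR
      · rw [if_neg hP₀, if_pos rfl, zero_add, plMap_apply, hzfix, hE]
        simpa using hzP P₀
      · rcases eq_or_ne R P₀ with rfl | hR'
        · rw [if_pos rfl, if_neg hR, add_zero]
          simpa using hzP R
        · rw [if_neg hR', if_neg hR, add_zero, sub_zero]
          exact hzE R
    have h1 := Submodule.finrank_sup_add_finrank_inf_eq (Vp σ E) (FunFld.L (E - Finsupp.single P₀ 1))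
    have h2 : Module.finrank k ↥(Vp σ E ⊔ FunFld.L (E - Finsupp.single P₀ 1)) ≤ ell E :=
      Submodule.finrank_mono (sup_le inf_le_left (L_mono (by
        intro R; rw [Finsupp.sub_apply, Finsupp.single_apply]; split_ifs <;> omega)))
    have h3 := ell_sub_ell_le hff (D := E - Finsupp.single P₀ 1) (E := E) (by
      intro R; rw [Finsupp.sub_apply, Finsupp.single_apply]; split_ifs <;> omega)
    rw [deg_sub_single hff] at h3
    have h4 := Submodule.finrank_mono hle
    have h5 := ih E' hE' (by rw [hd']; push_cast at hdeg; omega)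
    have h6 : ell (E - Finsupp.single P₀ 1) = Module.finrank k (FunFld.L (E - Finsupp.single P₀ 1)) := rfl
    omega

omit hσ in
/-- At a fixed place a negated regular function vanishes. -/
theorem anti_lt_one (hff : FF k K) (h2 : (2 : k) ≠ 0) {P : Place k K} (hP : P ∈ Fixed σ) {z : K}
    (hz : σ z = -z) (hle : P.1 z ≤ 1) : P.1 z < 1 := by
  obtain ⟨c, hc⟩ := exists_const_near hff P hle
  have h1 : P.1 (σ (z - algebraMap k K c)) < 1 := by
    rw [← plMap_apply, show plMap σ P = P from hP]; exact hc
  rw [map_sub, AlgEquiv.commutes, hz] at h1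
  have h3 : P.1 (algebraMap k K (c + c)) < 1 := by
    have : algebraMap k K (c + c) = -((z - algebraMap k K c) + (-z - algebraMap k K c)) := by
      rw [map_add]; ring
    rw [this, Valuation.map_neg]
    exact P.1.map_add_lt hc h1
  have hc0 : c = 0 := by
    by_contra hne
    have : c + c ≠ 0 := by rw [← two_mul]; exact mul_ne_zero h2 hne
    rw [val_const P this] at h3
    exact lt_irrefl _ h3
  simpa [hc0] using hc

omit hσ in
/-- At a fixed place an invariant function has no simple zero. -/
theorem ord_ne_one (hff : FF k K) (h2 : (2 : k) ≠ 0) {P : Place k K} (hP : P ∈ Fixed σ)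
    {a : K} (ha0 : a ≠ 0) (ha : σ a = -a) {u : K} (hu0 : u ≠ 0) (hu : σ u = u) : P.ord u ≠ 1 := by
  intro h
  have hw : σ (a * u ^ (-P.ord a)) = -(a * u ^ (-P.ord a)) := by
    rw [map_mul, map_zpow₀, ha, hu, neg_mul]
  have hne : a * u ^ (-P.ord a) ≠ 0 := mul_ne_zero ha0 (zpow_ne_zero _ hu0)
  have h0 : P.ord (a * u ^ (-P.ord a)) = 0 := by
    rw [ord_mul P ha0 (zpow_ne_zero _ hu0), ord_zpow, h]; ring
  have := anti_lt_one hff h2 hP hw ((val_le_one_iff P hne).2 h0.ge)
  rw [val_lt_one_iff' P hne] at this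
  omega

variable (h2 : (2 : k) ≠ 0) (hσ1 : σ ≠ AlgEquiv.refl)

include hσ1 in
omit [IsAlgClosed k] in
theorem exists_anti : ∃ a : K, a ≠ 0 ∧ σ a = -a := by
  obtain ⟨z, hz⟩ : ∃ z, σ z ≠ z := by
    by_contra! h
    exact hσ1 (AlgEquiv.ext h)
  exact ⟨z - σ z, sub_ne_zero.2 fun h => hz h.symm, by rw [map_sub, hσ, neg_sub]⟩

include h2 hσ1 in
theorem finite_fixed (hff : FF k K) : (Fixed σ).Finite := by
  obtain ⟨a, ha0, ha⟩ := exists_anti hσ hσ1
  refine (finite_support_ord hff a).subset fun P hP h0 => ?_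
  have := anti_lt_one hff h2 hP ha ((val_le_one_iff P ha0).2 (le_of_eq h0.symm))
  rw [val_lt_one_iff' P ha0] at this
  exact absurd h0 this.ne'

omit hσ in
theorem infinite_place (hff : FF k K) : Infinite (Place k K) := by
  obtain ⟨t, ht, -⟩ := id hff
  have htc : ∀ c : k, Transcendental k (t - algebraMap k K c) := fun c ha => ht (by
    have := ha.add (isAlgebraic_algebraMap (A := K) c)
    rwa [sub_add_cancel] at this)
  choose Q hQ using fun c : k => exists_zero_of_transcendental hff (htc c)
  refine Infinite.of_injective Q fun c d h => ?_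
  by_contra hne
  have h1 : (Q c).1 (t - algebraMap k K c) < 1 :=
    (val_lt_one_iff' _ (FunField.ne_zero_of_transcendental (htc c))).2 (hQ c)
  have h2' : (Q c).1 (t - algebraMap k K d) < 1 := by
    rw [h]; exact (val_lt_one_iff' _ (FunField.ne_zero_of_transcendental (htc d))).2 (hQ d)
  have h3 : (Q c).1 (algebraMap k K (d - c)) < 1 := by
    rw [show algebraMap k K (d - c) = (t - algebraMap k K c) - (t - algebraMap k K d) by rw [map_sub]; ring]
    exact Valuation.map_sub_lt _ h1 h2'
  rw [val_const _ (sub_ne_zero.2 (Ne.symm hne))] at h3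
  exact lt_irrefl _ h3

/-- The divisor of the fixed places. -/
noncomputable def fixDiv (hfin : (Fixed σ).Finite) : Divisor k K :=
  ∑ P ∈ hfin.toFinset, Finsupp.single P 1

omit hσ [IsAlgClosed k] in
open scoped Classical in
theorem fixDiv_apply (hfin : (Fixed σ).Finite) (P : Place k K) :
    fixDiv hfin P = if P ∈ Fixed σ then 1 else 0 := by
  rw [fixDiv, Finset.sum_apply']
  simp [Finsupp.single_apply]

omit hσ in
theorem deg_fixDiv (hff : FF k K) (hfin : (Fixed σ).Finite) :
    (fixDiv hfin).deg = Nat.card (Fixed σ) := by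
  classical
  rw [deg_eq_sum _ hfin.toFinset (fun P hP => by
    rw [Finsupp.mem_support_iff, fixDiv_apply] at hP
    rw [Set.Finite.mem_toFinset]
    by_contra h
    exact hP (if_neg h))]
  rw [Finset.sum_congr rfl (fun P hP => by
    rw [fixDiv_apply, if_pos ((Set.Finite.mem_toFinset hfin).1 hP), deg_eq_one hff])]
  rw [Nat.card_coe_set_eq, Set.ncard_eq_toFinset_card _ hfin]
  simp

theorem fixed_plMap {P : Place k K} : plMap σ P ∈ Fixed σ ↔ P ∈ Fixed σ :=
  ⟨fun h => by
    have := congrArg (plMap σ) (show plMap σ (plMap σ P) = plMap σ P from h)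
    rwa [plMap_plMap hσ, plMap_plMap hσ] at this,
  fun h => by rw [show plMap σ P = P from h]; exact h⟩

include h2 in
/-- Products of negated functions vanish twice at the fixed places. -/
theorem mul_mem_Vp (hff : FF k K) (hfin : (Fixed σ).Finite) {D D' : Divisor k K}
    (hD : ∀ P ∈ Fixed σ, D P = 0) (hD' : ∀ P ∈ Fixed σ, D' P = 0)
    {a b : K} (ha : a ∈ Vm σ D) (hb : b ∈ Vm σ D') :
    a * b ∈ Vp σ (D + D' - 2 • fixDiv hfin) := by
  classical
  rw [mem_Vm] at ha hb
  refine mem_Vp.2 ⟨fun P => ?_, by rw [map_mul, ha.2, hb.2, neg_mul_neg]⟩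
  rw [map_mul, Finsupp.sub_apply, Finsupp.add_apply, Finsupp.smul_apply, fixDiv_apply]
  by_cases hP : P ∈ Fixed σ
  · have h1 := anti_lt_one hff h2 hP ha.2 (by have := ha.1 P; rwa [hD P hP, exp_zero] at this)
    have h1' := anti_lt_one hff h2 hP hb.2 (by have := hb.1 P; rwa [hD' P hP, exp_zero] at this)
    rw [lt_one_iff_le] at h1 h1'
    rw [if_pos hP, hD P hP, hD' P hP]
    refine (mul_le_mul' h1 h1').trans_eq ?_
    rw [← exp_add]; rfl
  · rw [if_neg hP, smul_zero, sub_zero, exp_add]
    exact mul_le_mul' (ha.1 P) (hb.1 P)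

include h2 hσ1 in
/-- `2g + 2` fixed places force an invariant coordinate of degree two. -/
theorem exists_coord_of_card (hK : IsFunctionField k K) (hn : Nat.card (Fixed σ) = 2 * genus k K + 2) :
    ∃ x : K, σ x = x ∧ Transcendental k x ∧ Module.finrank (IntermediateField.adjoin k ({x} : Set K)) K = 2 := by
  classical
  have hff : FF k K := hK.1
  haveI := infinite_place hff
  have hfin := finite_fixed hσ h2 hσ1 hff
  obtain ⟨P₀, hP₀⟩ := hfin.exists_notMem
  let g := genus k K
  let D₁ := orb σ P₀
  have hD₁ : ∀ P, D₁ (plMap σ P) = D₁ P := orb_plMap hσ P₀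
  have hD₁0 : ∀ P ∈ Fixed σ, D₁ P = 0 := fun P hP => by
    rw [orb_apply, if_neg (fun h : P = P₀ => hP₀ (h ▸ hP)),
      if_neg (fun h : P = plMap σ P₀ => hP₀ ((fixed_plMap hσ).1 (h ▸ hP))), add_zero]
  have hd₁ : D₁.deg = 2 := by simp [D₁, orb, deg_add, deg_single, deg_eq_one hff]
  have hDn : ∀ (n : ℕ) (P), (n • D₁) (plMap σ P) = (n • D₁) P := fun n P => by simp [hD₁]
  have hdn : ∀ n : ℕ, (n • D₁).deg = 2 * n := fun n => by rw [deg_smul, hd₁]; ring
  have hup : ∀ n : ℕ, Module.finrank k (Vp σ (n • D₁)) ≤ n + 1 := fun n =>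
    finrank_Vp_le hσ hff hP₀ _ _ (hDn n) (by rw [hdn]; push_cast; omega)
  have hlow : 2 * (g + 1) + 1 ≤ g + ell ((g + 1) • D₁) := by
    have := delta_le_genus hff ((g + 1) • D₁)
    rw [delta, hdn] at this
    push_cast at this
    omega
  have hsplit := finrank_split hσ hff h2 (hDn (g + 1))
  have hu := hup (g + 1)
  haveI := finiteDimensional_L hff ((g + 1) • D₁)
  haveI : FiniteDimensional k (Vm σ ((g + 1) • D₁)) := Submodule.finiteDimensional_inf_left _ _
  obtain ⟨b, hb, hb0⟩ : ∃ b ∈ Vm σ ((g + 1) • D₁), b ≠ 0 := by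
    refine Submodule.exists_mem_ne_zero_of_ne_bot fun h => ?_
    rw [h, finrank_bot] at hsplit
    omega
  have hsum : (g + 1) • D₁ + (g + 1) • D₁ = (2 * g + 2) • D₁ := by rw [← add_nsmul]; ring_nf
  let E := (g + 1) • D₁ + (g + 1) • D₁ - 2 • fixDiv hfin
  have hF : ∀ P, fixDiv hfin (plMap σ P) = fixDiv hfin P := fun P => by
    simp only [fixDiv_apply, fixed_plMap hσ]
  have hEdeg : E.deg ≤ 2 * ((1 : ℕ) : ℤ) - 1 := by
    simp only [E, deg_sub, deg_add, hdn, deg_smul, deg_fixDiv hff, hn]
    push_cast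
    omega
  have hE1 := finrank_Vp_le hσ hff hP₀ 1 E (fun P => by simp [E, hD₁, hF]) hEdeg
  have hm1 : Module.finrank k (Vm σ ((g + 1) • D₁)) ≤ 1 := by
    haveI := finiteDimensional_L hff E
    haveI : FiniteDimensional k (Vp σ E) := Submodule.finiteDimensional_inf_left _ _
    refine le_trans ?_ hE1
    have h0 : ∀ P ∈ Fixed σ, ((g + 1) • D₁) P = 0 := fun P hP => by simp [hD₁0 P hP]
    let l : Vm σ ((g + 1) • D₁) →ₗ[k] Vp σ E :=
      ((LinearMap.mulRight k b).domRestrict _).codRestrict (Vp σ E) fun a => mul_mem_Vp hσ h2 hff hfin h0 h0 a.2 hb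
    refine LinearMap.finrank_le_finrank_of_injective (f := l) fun a a' h => Subtype.ext ?_
    exact mul_right_cancel₀ hb0 (congrArg Subtype.val h)
  -- descend to degree two
  have hdesc : ∀ j : ℕ, j ≤ g → g + 2 ≤ Module.finrank k (Vp σ ((g + 1 - j) • D₁)) + j := by
    intro j
    induction j with
    | zero => intro _; rw [Nat.sub_zero]; omega
    | succ j ih =>
      intro hj
      have h := ih (by omega)
      let E₂ := (g + 1 - j) • D₁
      haveI := finiteDimensional_L hff E₂
      haveI := finiteDimensional_L hff (E₂ - Finsupp.single P₀ 1)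
      haveI : FiniteDimensional k (Vp σ E₂) := Submodule.finiteDimensional_inf_left _ _
      haveI := finiteDimensional_L hff ((g + 1 - (j + 1)) • D₁)
      haveI : FiniteDimensional k (Vp σ ((g + 1 - (j + 1)) • D₁)) := Submodule.finiteDimensional_inf_left _ _
      have heq : E₂ = (g + 1 - (j + 1)) • D₁ + D₁ := by
        rw [← succ_nsmul]; simp only [E₂]; congr 1; omega
      have hle : Vp σ E₂ ⊓ FunFld.L (E₂ - Finsupp.single P₀ 1) ≤ Vp σ ((g + 1 - (j + 1)) • D₁) := fun z hz => by
        obtain ⟨⟨hzE, hzfix⟩, hzP⟩ := And.intro (mem_Vp.1 hz.1) hz.2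
        refine mem_Vp.2 ⟨fun R => ?_, hzfix⟩
        have e1 : ((g + 1 - (j + 1)) • D₁) R = E₂ R - D₁ R := by rw [heq, Finsupp.add_apply]; ring
        rw [e1]
        simp only [D₁, orb_apply]
        rcases eq_or_ne R (plMap σ P₀) with rfl | hR
        · rw [if_neg (fun h : plMap σ P₀ = P₀ => hP₀ h), if_pos rfl, zero_add, plMap_apply, hzfix,
            show E₂ (plMap σ P₀) = E₂ P₀ from hDn _ P₀]
          simpa using hzP P₀
        · rcases eq_or_ne R P₀ with rfl | hR'
          · rw [if_pos rfl, if_neg hR, add_zero]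
            simpa using hzP R
          · rw [if_neg hR', if_neg hR, add_zero, sub_zero]
            exact hzE R
      have h1 := Submodule.finrank_sup_add_finrank_inf_eq (Vp σ E₂) (FunFld.L (E₂ - Finsupp.single P₀ 1))
      have h2' : Module.finrank k ↥(Vp σ E₂ ⊔ FunFld.L (E₂ - Finsupp.single P₀ 1)) ≤ ell E₂ :=
        Submodule.finrank_mono (sup_le inf_le_left (L_mono (by
          intro R; rw [Finsupp.sub_apply, Finsupp.single_apply]; split_ifs <;> omega)))
      have h3 := ell_sub_ell_le hff (D := E₂ - Finsupp.single P₀ 1) (E := E₂) (by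
        intro R; rw [Finsupp.sub_apply, Finsupp.single_apply]; split_ifs <;> omega)
      rw [deg_sub_single hff] at h3
      have h4 := Submodule.finrank_mono hle
      have h6 : ell (E₂ - Finsupp.single P₀ 1) = Module.finrank k (FunFld.L (E₂ - Finsupp.single P₀ 1)) := rfl
      have h7 : Module.finrank k (Vp σ E₂) = Module.finrank k (Vp σ ((g + 1 - j) • D₁)) := rfl
      omega
  have htwo : 2 ≤ Module.finrank k (Vp σ D₁) := by
    have h := hdesc g le_rfl
    rw [show g + 1 - g = 1 by omega, one_smul] at h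
    omega
  obtain ⟨x, hx, hxc⟩ : ∃ x ∈ Vp σ D₁, x ∉ Submodule.span k ({1} : Set K) := by
    by_contra! h
    have h' := Submodule.finrank_mono (R := k) h
    rw [finrank_span_singleton (one_ne_zero : (1 : K) ≠ 0)] at h'
    omega
  rw [mem_Vp] at hx
  have hxt : Transcendental k x := fun ha => by
    obtain ⟨c, rfl⟩ := hK.2 x ha
    exact hxc (Submodule.mem_span_singleton.2 ⟨c, by rw [Algebra.smul_def, mul_one]⟩)
  refine ⟨x, hx.2, hxt, le_antisymm ?_ ?_⟩
  · have h := deg_poleDiv hff hxt
    have hle : poleDiv (k := k) x ≤ D₁ := Finsupp.le_def.2 fun P => by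
      rw [poleDiv_apply hff]
      have h1 := (mem_L_iff_ord (FunField.ne_zero_of_transcendental hxt)).1 hx.1 P
      have h0 : 0 ≤ D₁ P := by rw [orb_apply]; split_ifs <;> norm_num
      omega
    have := deg_mono hle
    omega
  · haveI := hff.finiteDimensional hxt
    by_contra! h
    have h1 : Module.finrank (IntermediateField.adjoin k ({x} : Set K)) K = 1 := by
      have := Module.finrank_pos (R := IntermediateField.adjoin k ({x} : Set K)) (M := K)
      omega
    obtain ⟨a, ha0, ha⟩ := exists_anti hσ hσ1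
    have hmem : a ∈ IntermediateField.adjoin k ({x} : Set K) := by
      obtain ⟨c, hc⟩ := (finrank_eq_one_iff_of_nonzero' (1 : K) one_ne_zero).1 h1 a
      rw [← hc, IntermediateField.smul_def, smul_eq_mul, mul_one]
      exact c.2
    obtain ⟨r, s, rfl⟩ := IntermediateField.mem_adjoin_simple_iff (F := k) _ |>.1 hmem
    rw [map_div₀, ← Polynomial.aeval_algHom_apply, ← Polynomial.aeval_algHom_apply, hx.2] at ha
    have h2' : (2 : k) • (Polynomial.aeval x r / Polynomial.aeval x s) = 0 := by
      rw [two_smul]; nth_rw 1 [ha]; exact neg_add_cancel _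
    exact ha0 ((smul_eq_zero.1 h2').resolve_left h2)

include h2 hσ1 in
/-- An invariant coordinate of degree two forces `2g + 2` fixed places. -/
theorem card_of_coord (hK : IsFunctionField k K) {x : K} (hx : σ x = x) (hxt : Transcendental k x)
    (hdeg : Module.finrank (IntermediateField.adjoin k ({x} : Set K)) K = 2) :
    Nat.card (Fixed σ) = 2 * genus k K + 2 := by
  classical
  have hff : FF k K := hK.1
  haveI := infinite_place hff
  have hfin := finite_fixed hσ h2 hσ1 hff
  have hpol : {P : Place k K | P.ord x < 0}.Finite := (finite_support_ord hff x).subset fun P hP => ne_of_lt hP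
  obtain ⟨P₀, hP₀'⟩ := (hfin.union hpol).exists_notMem
  simp only [Set.mem_union, Set.mem_setOf_eq, not_or, not_lt] at hP₀'
  obtain ⟨hP₀, hx₀⟩ := hP₀'
  have hx0 : x ≠ 0 := FunField.ne_zero_of_transcendental hxt
  obtain ⟨c, hc⟩ := exists_const_near hff P₀ ((val_le_one_iff P₀ hx0).2 hx₀)
  have hz0 : x - algebraMap k K c ≠ 0 := fun h => hxt (sub_eq_zero.1 h ▸ isAlgebraic_algebraMap c)
  let w := (x - algebraMap k K c)⁻¹
  have hwfix : σ w = w := by simp [w, hx]
  have hwt : Transcendental k w := transcendental_inv fun ha => hxt (by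
    have := ha.add (isAlgebraic_algebraMap (A := K) c)
    rwa [sub_add_cancel] at this)
  have hwadj : IntermediateField.adjoin k ({w} : Set K) = IntermediateField.adjoin k ({x} : Set K) := by
    apply le_antisymm <;> rw [IntermediateField.adjoin_simple_le_iff]
    · exact inv_mem (sub_mem (IntermediateField.mem_adjoin_simple_self k x) (IntermediateField.algebraMap_mem _ c))
    · have := add_mem (inv_mem (IntermediateField.mem_adjoin_simple_self k w))
        (IntermediateField.algebraMap_mem (IntermediateField.adjoin k ({w} : Set K)) c)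
      simpa [w] using this
  let g := genus k K
  let D₁ := orb σ P₀
  have hD₁ : ∀ P, D₁ (plMap σ P) = D₁ P := orb_plMap hσ P₀
  have hD₁0 : ∀ P ∈ Fixed σ, D₁ P = 0 := fun P hP => by
    rw [orb_apply, if_neg (fun h : P = P₀ => hP₀ (h ▸ hP)),
      if_neg (fun h : P = plMap σ P₀ => hP₀ ((fixed_plMap hσ).1 (h ▸ hP))), add_zero]
  have hd₁ : D₁.deg = 2 := by simp [D₁, orb, deg_add, deg_single, deg_eq_one hff]
  have hDn : ∀ (n : ℕ) (P), (n • D₁) (plMap σ P) = (n • D₁) P := fun n P => by simp [hD₁]
  have hdn : ∀ n : ℕ, (n • D₁).deg = 2 * n := fun n => by rw [deg_smul, hd₁]; ring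
  have hw0 : w ≠ 0 := inv_ne_zero hz0
  have hwpole : P₀.ord w < 0 ∧ (plMap σ P₀).ord w < 0 := by
    have h1 : 1 < P₀.1 w := by
      rw [show w = (x - algebraMap k K c)⁻¹ from rfl, map_inv₀]
      exact (one_lt_inv₀ (by simp [zero_lt_iff, hz0])).2 hc
    have h1' : 1 < (plMap σ P₀).1 w := by rw [plMap_apply, hwfix]; exact h1
    refine ⟨not_le.1 fun h => h1.not_ge ((val_le_one_iff _ hw0).2 h), not_le.1 fun h => h1'.not_ge ((val_le_one_iff _ hw0).2 h)⟩
  have hwdiv : poleDiv (k := k) w = D₁ := by
    have hle : D₁ ≤ poleDiv (k := k) w := Finsupp.le_def.2 fun P => by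
      have h0 := poleDiv_apply (k := k) hff w P
      simp only [D₁, orb_apply]
      rcases eq_or_ne P P₀ with rfl | h
      · rw [if_pos rfl, if_neg (fun h : P = plMap σ P => hP₀ h.symm)]; omega
      · rw [if_neg h]
        rcases eq_or_ne P (plMap σ P₀) with rfl | h'
        · rw [if_pos rfl]; omega
        · rw [if_neg h']; omega
    refine (eq_of_le_of_deg hff hle ?_).symm
    rw [deg_poleDiv hff hwt, hd₁, hwadj, hdeg]; rfl
  have hwL : ∀ n i : ℕ, i ≤ n → w ^ i ∈ Vp σ (n • D₁) := fun n i hi => by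
    refine mem_Vp.2 ⟨(mem_L_iff_ord (pow_ne_zero i hw0)).2 fun P => ?_, by rw [map_pow, hwfix]⟩
    rw [ord_pow, Finsupp.smul_apply, ← hwdiv, poleDiv_apply hff, nsmul_eq_mul]
    rcases le_total (P.ord w) 0 with h | h
    · rw [max_eq_left (by omega)]
      nlinarith
    · rw [max_eq_right (by omega), mul_zero, add_zero]
      positivity
  have hp : ∀ n : ℕ, Module.finrank k (Vp σ (n • D₁)) = n + 1 := fun n => by
    refine le_antisymm (finrank_Vp_le hσ hff hP₀ _ _ (hDn n) (by rw [hdn]; push_cast; omega)) ?_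
    haveI := finiteDimensional_L hff (n • D₁)
    haveI : FiniteDimensional k (Vp σ (n • D₁)) := Submodule.finiteDimensional_inf_left _ _
    let v : Fin (n + 1) → Vp σ (n • D₁) := fun i => ⟨w ^ (i : ℕ), hwL n i (Nat.le_of_lt_succ i.2)⟩
    have hv : LinearIndependent k v := by
      refine LinearIndependent.of_comp (Vp σ (n • D₁)).subtype ?_
      have := (Polynomial.basisMonomials k).linearIndependent.map' (Polynomial.aeval w).toLinearMap
        (LinearMap.ker_eq_bot.2 (transcendental_iff_injective.1 hwt))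
      have h3 := this.comp (fun i : Fin (n + 1) => (i : ℕ)) Fin.val_injective
      have he : (⇑(Vp σ (n • D₁)).subtype ∘ v) =
          ((⇑(Polynomial.aeval w).toLinearMap ∘ ⇑(Polynomial.basisMonomials k)) ∘ fun i : Fin (n + 1) => (i : ℕ)) := by
        funext i
        simp [v]
      rw [he]
      exact h3
    have := hv.fintype_card_le_finrank
    simpa using this
  have hm : Module.finrank k (Vm σ (g • D₁)) = 0 ∧ Module.finrank k (Vm σ ((g + 1) • D₁)) = 1 := by
    have e1 := finrank_split hσ hff h2 (hDn g)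
    have e2 := finrank_split hσ hff h2 (hDn (g + 1))
    have l1 := ell_of_large_deg hK (g • D₁) (by rw [hdn]; omega)
    have l2 := ell_of_large_deg hK ((g + 1) • D₁) (by rw [hdn]; push_cast; omega)
    rw [hdn] at l1 l2
    rw [hp] at e1 e2
    push_cast at l2
    omega
  haveI := finiteDimensional_L hff ((g + 1) • D₁)
  haveI := finiteDimensional_L hff (g • D₁)
  haveI : FiniteDimensional k (Vm σ ((g + 1) • D₁)) := Submodule.finiteDimensional_inf_left _ _
  haveI : FiniteDimensional k (Vm σ (g • D₁)) := Submodule.finiteDimensional_inf_left _ _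
  have hbot : Vm σ (g • D₁) = ⊥ := Submodule.finrank_eq_zero.1 hm.1
  obtain ⟨a, ha, ha0⟩ : ∃ a ∈ Vm σ ((g + 1) • D₁), a ≠ 0 :=
    Submodule.exists_mem_ne_zero_of_ne_bot fun h => by rw [h, finrank_bot] at hm; omega
  rw [mem_Vm] at ha
  let Z := (g + 1) • D₁ + FunFld.div k a
  have hZnn : 0 ≤ Z := (mem_L_iff_div hff ha0).1 ha.1
  have hordσ : ∀ {z : K}, z ≠ 0 → (σ z = z ∨ σ z = -z) → ∀ P, (plMap σ P).ord z = P.ord z := fun {z} _ h P => by
    rw [Place.ord, Place.ord, plMap_apply]
    rcases h with h | h <;> rw [h]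
    rw [Valuation.map_neg]
  have hZinv : ∀ P, Z (plMap σ P) = Z P := fun P => by
    simp only [Z, Finsupp.add_apply, div_apply hff, hDn, hordσ ha0 (Or.inr ha.2)]
  -- functions with a single orbit of zeros
  have hu : ∀ P, ∃ u : K, u ≠ 0 ∧ σ u = u ∧ D₁ + FunFld.div k u = orb σ P := fun P => by
    by_cases hP : P.ord w < 0
    · refine ⟨1, one_ne_zero, map_one σ, ?_⟩
      have h0 : FunFld.div k (1 : K) = 0 := Finsupp.ext fun R => by
        rw [div_apply hff]; simp [Place.ord]
      rw [h0, add_zero]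
      have hmem : 0 < D₁ P := by rw [← hwdiv, poleDiv_apply hff]; omega
      simp only [D₁, orb_apply] at hmem
      refine Finsupp.ext fun R => ?_
      rcases eq_or_ne P P₀ with rfl | h
      · rfl
      · rw [if_neg h, zero_add] at hmem
        have h' : P = plMap σ P₀ := by
          by_contra h'; rw [if_neg h'] at hmem; exact lt_irrefl _ hmem
        rw [h']
        simp only [D₁, orb, plMap_plMap hσ]
        rw [add_comm]
    · obtain ⟨d, hd⟩ := exists_const_near hff P ((val_le_one_iff P hw0).2 (not_lt.1 hP))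
      have hu0 : w - algebraMap k K d ≠ 0 := fun h => hwt (sub_eq_zero.1 h ▸ isAlgebraic_algebraMap d)
      have hufix : σ (w - algebraMap k K d) = w - algebraMap k K d := by simp [hwfix]
      refine ⟨_, hu0, hufix, ?_⟩
      set u := w - algebraMap k K d
      have huL : u ∈ FunFld.L D₁ := by
        have h1 := (mem_Vp.1 (hwL 1 1 le_rfl)).1
        have h2' := (mem_Vp.1 (hwL 1 0 (by omega))).1
        rw [one_smul, pow_one] at h1
        rw [one_smul, pow_zero] at h2'
        have := sub_mem h1 (Submodule.smul_mem _ d h2')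
        rwa [Algebra.smul_def, mul_one] at this
      have hW : 0 ≤ D₁ + FunFld.div k u := (mem_L_iff_div hff hu0).1 huL
      have hD₁P : D₁ P = 0 := by rw [← hwdiv, poleDiv_apply hff]; omega
      have hpos : 0 < P.ord u := (val_lt_one_iff' P hu0).1 hd
      have hge : orb σ P ≤ D₁ + FunFld.div k u := Finsupp.le_def.2 fun R => by
        rw [orb_apply, Finsupp.add_apply, div_apply hff]
        by_cases hfx : P ∈ Fixed σ
        · have hne := ord_ne_one hff h2 hfx ha0 ha.2 hu0 hufix
          rw [show plMap σ P = P from hfx]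
          rcases eq_or_ne R P with rfl | hR
          · rw [if_pos rfl, hD₁P]; omega
          · rw [if_neg hR]
            have := Finsupp.le_def.1 hW R
            rw [Finsupp.add_apply, div_apply hff, Finsupp.zero_apply] at this
            omega
        · rcases eq_or_ne R P with rfl | hR
          · rw [if_pos rfl, if_neg (fun h : R = plMap σ R => hfx h.symm), hD₁P]; omega
          · rw [if_neg hR]
            rcases eq_or_ne R (plMap σ P) with rfl | hR'
            · rw [if_pos rfl, hD₁, hD₁P, hordσ hu0 (Or.inl hufix)]; omega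
            · rw [if_neg hR']
              have := Finsupp.le_def.1 hW R
              rw [Finsupp.add_apply, div_apply hff, Finsupp.zero_apply] at this
              omega
      refine (eq_of_le_of_deg hff hge ?_).symm
      rw [deg_add, deg_div hff, hd₁]
      simp [orb, deg_add, deg_single, deg_eq_one hff]
  have hsmall : ∀ P, ¬ orb σ P ≤ Z := fun P hle => by
    obtain ⟨u, hu0, hufix, hudiv⟩ := hu P
    have hq : a / u ∈ Vm σ (g • D₁) := by
      refine mem_Vm.2 ⟨(mem_L_iff_div hff (div_ne_zero ha0 hu0)).2 ?_, by rw [map_div₀, ha.2, hufix, neg_div]⟩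
      have he : g • D₁ + FunFld.div k (a / u) = Z - orb σ P := by
        rw [← hudiv, div_eq_mul_inv, div_mul hff ha0 (inv_ne_zero hu0), div_inv hff]
        simp only [Z, succ_nsmul]
        abel
      rw [he]
      exact Finsupp.le_def.2 fun R => by
        have := Finsupp.le_def.1 hle R
        rw [Finsupp.sub_apply, Finsupp.zero_apply]; omega
    rw [hbot, Submodule.mem_bot] at hq
    exact div_ne_zero ha0 hu0 hq
  have hZ : Z = fixDiv hfin := Finsupp.ext fun P => by
    rw [fixDiv_apply]
    have h0 := Finsupp.le_def.1 hZnn P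
    rw [Finsupp.zero_apply] at h0
    by_cases hP : P ∈ Fixed σ
    · rw [if_pos hP]
      have hD0 : ((g + 1) • D₁) P = 0 := by simp [hD₁0 P hP]
      have h1 : 1 ≤ Z P := by
        have := anti_lt_one hff h2 hP ha.2 (by have := ha.1 P; rwa [hD0, exp_zero] at this)
        rw [val_lt_one_iff' P ha0] at this
        simp only [Z, Finsupp.add_apply, div_apply hff, hD0]
        omega
      refine le_antisymm (not_lt.1 fun h => hsmall P (Finsupp.le_def.2 fun R => ?_)) h1
      have := Finsupp.le_def.1 hZnn R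
      rw [orb_apply, show plMap σ P = P from hP, Finsupp.zero_apply] at *
      rcases eq_or_ne R P with rfl | hR
      · rw [if_pos rfl]; omega
      · rw [if_neg hR]; omega
    · rw [if_neg hP]
      refine le_antisymm (not_lt.1 fun h => hsmall P (Finsupp.le_def.2 fun R => ?_)) h0
      have := Finsupp.le_def.1 hZnn R
      rw [Finsupp.zero_apply] at this
      rw [orb_apply]
      rcases eq_or_ne R P with rfl | hR
      · rw [if_pos rfl, if_neg (fun h : R = plMap σ R => hP h.symm)]; omega
      · rw [if_neg hR]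
        rcases eq_or_ne R (plMap σ P) with rfl | hR'
        · rw [if_pos rfl, hZinv]; omega
        · rw [if_neg hR']; omega
  have hdZ := congrArg Divisor.deg hZ
  rw [deg_fixDiv hff, deg_add, hdn, deg_div hff] at hdZ
  push_cast at hdZ
  omega

end Groth.Agent.InvolFF17
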