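import Groth.Agent.Lib.InvolFF17.Scheme
import Groth.Agent.Lib.GenusFF17.Main
import Groth.Agent.Lib.FunField.Hyper26
import Groth.Agent.Lib.LurothCurve17
import Groth.Agent.Lib.CurveOm17.P1
import Groth.Agent.Lib.CurveCoh17.Hyper
import Groth.Agent.Lib.CurveCoh17.TracePair
import Groth.Agent.Lib.AmpleFin18.Proj
import Groth.Agent.S0219
import Groth.Agent.S6554

/-!
# Double covers of the line and involutions with `2g + 2` fixed points
-/

set_option linter.style.haveILetI false
set_option autoImplicit false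
set_option maxHeartbeats 800000

universe u

open CategoryTheory CategoryTheory.Limits AlgebraicGeometry TopologicalSpace

namespace Groth.Agent.InvolFF17

attribute [local instance] Curv2.stalkAlgebra

variable {k : Type u} [Field k] {X : Scheme.{u}} [X.Over (Spec (CommRingCat.of k))] [IsIntegral X]
  [IsProper (X ↘ Spec (CommRingCat.of k))] [Smooth (X ↘ Spec (CommRingCat.of k))]

/-- A coordinate of degree two gives a double cover of the line. -/
theorem exists_doubleCover_of_coord (hdim : topologicalKrullDim X = 1) (hg : Curv2.genus k X ≠ 0)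
    (x : X.functionField) (hxt : Transcendental k x)
    (hdeg : Module.finrank (IntermediateField.adjoin k ({x} : Set X.functionField)) X.functionField = 2) :
    ∃ f : X ⟶ CohB1.ProjSpace 1 k, f ≫ CohB1.ProjSpace.toSpec 1 k = X ↘ Spec (CommRingCat.of k) ∧ IsFinite f ∧
      Flat f ∧ (∀ y : ↥(CohB1.ProjSpace 1 k), Scheme.Hom.finrank f y = 2) ∧
      ∃ V : X.Opens, (V : Set X).Nonempty ∧ Etale (V.ι ≫ f) := by
  classical
  haveI := RegExt.isIntegral_projSpace 1 k
  letI : (CohB1.ProjSpace 1 k).Over (Spec (CommRingCat.of k)) := ⟨CohB1.ProjSpace.toSpec 1 k⟩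
  haveI : IsProper ((CohB1.ProjSpace 1 k) ↘ Spec (CommRingCat.of k)) := ProjSpace.isProper_toSpec 1 k
  haveI : IsProper (CohB1.ProjSpace.toSpec 1 k) := ProjSpace.isProper_toSpec 1 k
  haveI : Smooth ((CohB1.ProjSpace 1 k) ↘ Spec (CommRingCat.of k)) := ProjSpace.smooth_toSpec 1 k
  have hdimY : topologicalKrullDim (CohB1.ProjSpace 1 k) = 1 := by rw [Groth.Agent.S10829.result k 1]; rfl
  haveI : IsNoetherian (CohB1.ProjSpace 1 k) := VB17.isNoetherian_of_over (k := k)
  obtain ⟨e, he⟩ := LurothCurve17.exists_ratFunc_equiv (k := k)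
  have hinj : Function.Injective (Polynomial.aeval (R := k) x).toRingHom := transcendental_iff_injective.1 hxt
  let φ : RatFunc k →+* X.functionField := IsFractionRing.lift hinj
  have hφ : ∀ p : Polynomial k, φ (algebraMap (Polynomial k) (RatFunc k) p) = Polynomial.aeval x p :=
    fun p => IsFractionRing.lift_algebraMap hinj p
  let ψ : (CohB1.ProjSpace 1 k).functionField →+* X.functionField := φ.comp e.symm.toRingHom
  have hC : ∀ c : k, φ (RatFunc.C c) = algebraMap k X.functionField c := fun c => by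
    rw [← RatFunc.algebraMap_C, hφ, Polynomial.aeval_C]
  obtain ⟨f, eξ, hf, hgen⟩ := Curve17.exists_hom_of_functionField (X ↘ Spec (CommRingCat.of k))
    (CohB1.ProjSpace.toSpec 1 k)
    (fun y => Curve17.valuationRing_stalk_of_normal (X ↘ Spec (CommRingCat.of k)) hdim
      (fun z => SmoothReg17.isIntegrallyClosed_stalk (X ↘ Spec (CommRingCat.of k)) z) y)
    (CommRingCat.ofHom ψ) (by
      ext c
      show ψ (Curve17.baseStalk (CohB1.ProjSpace.toSpec 1 k) (genericPoint (CohB1.ProjSpace 1 k)) c) = _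
      rw [← he c]
      show φ (e.symm (e (RatFunc.C c))) = _
      rw [e.symm_apply_apply, hC]
      rfl)
  haveI : JacobsonSpace (CohB1.ProjSpace 1 k) := LocallyOfFiniteType.jacobsonSpace (CohB1.ProjSpace.toSpec 1 k)
  haveI : JacobsonSpace X := LocallyOfFiniteType.jacobsonSpace (X ↘ Spec (CommRingCat.of k))
  haveI : IsFinite f := by
    refine Groth.Agent.S0219.result k X (CohB1.ProjSpace 1 k) (X ↘ Spec (CommRingCat.of k))
      (CohB1.ProjSpace.toSpec 1 k) f hf hdim.le fun Z hZ _ => ?_
    rw [irreducibleComponents_eq_singleton, Set.mem_singleton_iff] at hZ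
    subst hZ
    rw [Set.image_univ]
    haveI : LocallyOfFiniteType (f ≫ CohB1.ProjSpace.toSpec 1 k) := by rw [hf]; infer_instance
    haveI : LocallyOfFiniteType f := locallyOfFiniteType_of_comp f (CohB1.ProjSpace.toSpec 1 k)
    obtain ⟨x₀, -, hx₀⟩ := nonempty_inter_closedPoints (Z := (Set.univ : Set X))
      ⟨genericPoint X, trivial⟩ isClosed_univ.isLocallyClosed
    exact Curve17.range_nontrivial hdim.le hdimY f hx₀ eξ
  haveI : Flat f := CurveCoh17.flat_of_pid f (fun y => VB17.pid_stalk (k := k) hdimY.le y) eξ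
  have hd : f.residueDegree (genericPoint X) = 2 := by
    rw [← CurveOm17.finrank_genMap_eq_residueDegree f eξ]
    letI := (Curve17.genMap f eξ).hom.toAlgebra
    have hmem : ∀ z, ψ z ∈ IntermediateField.adjoin k ({x} : Set X.functionField) := fun z => by
      obtain ⟨p, q, -, hpq⟩ := IsFractionRing.div_surjective (A := Polynomial k) (e.symm z)
      show φ (e.symm z) ∈ _
      rw [← hpq, map_div₀, hφ, hφ]
      exact div_mem (IntermediateField.algebra_adjoin_le_adjoin k _ (Polynomial.aeval_mem_adjoin_singleton k x))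
        (IntermediateField.algebra_adjoin_le_adjoin k _ (Polynomial.aeval_mem_adjoin_singleton k x))
    let ψ' := ψ.codRestrict (IntermediateField.adjoin k ({x} : Set X.functionField)) hmem
    have hb : Function.Bijective ψ' := ⟨ψ'.injective, fun z => by
      obtain ⟨p, q, hpq⟩ := IntermediateField.mem_adjoin_simple_iff (F := k) _ |>.1 z.2
      refine ⟨e (algebraMap _ (RatFunc k) p / algebraMap _ (RatFunc k) q), Subtype.ext ?_⟩
      show φ (e.symm (e _)) = _
      rw [e.symm_apply_apply, map_div₀, hφ, hφ, hpq]⟩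
    rw [← hdeg]
    refine Algebra.finrank_eq_of_equiv_equiv (RingEquiv.ofBijective ψ' hb) (RingEquiv.refl _) ?_
    refine RingHom.ext fun z => ?_
    show ψ z = (Curve17.genMap f eξ).hom z
    rw [hgen]
    rfl
  refine ⟨f, hf, inferInstance, inferInstance, fun y => ?_, ?_⟩
  · haveI : LocallyOfFinitePresentation f := {
      finitePresentation_appLE := fun {U} hU {V} hV le =>
        haveI := IsLocallyNoetherian.component_noetherian (X := CohB1.ProjSpace 1 k) ⟨U, hU⟩
        RingHom.FinitePresentation.of_finiteType.mp (f.finiteType_appLE hU hV le) }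
    rw [(Scheme.Hom.isLocallyConstant_finrank f).apply_eq_of_preconnectedSpace y (genericPoint _),
      CurveCoh17.finrank_genericPoint_eq_residueDegree f eξ
        (fun z hz => AmpleFin18.preimage_genericPoint hdim.le hdimY f hz)]
    exact hd
  · obtain ⟨hsep, -⟩ := CurveCoh17.separable_of_degree_two hdim hg f hf eξ hd
    have h := (Groth.Agent.S6554.result k X (CohB1.ProjSpace 1 k) hdim hdimY f hf eξ).2
    letI := (Curve17.genMap f eξ).hom.toAlgebra
    exact h.2 hsep

/-- A double cover of the line has an involution with `2g + 2` fixed points. -/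
theorem exists_involution_of_doubleCover [IsAlgClosed k] [ConnectedSpace X] (h2 : (2 : k) ≠ 0)
    (hdim : topologicalKrullDim X = 1) (hg : 2 ≤ Curv2.genus k X) (f : X ⟶ CohB1.ProjSpace 1 k)
    (hf : f ≫ CohB1.ProjSpace.toSpec 1 k = X ↘ Spec (CommRingCat.of k)) [IsFinite f] [Flat f]
    (hr : ∀ y : ↥(CohB1.ProjSpace 1 k), f.finrank y = 2) :
    ∃ σ : X ⟶ X, σ ≫ (X ↘ Spec (CommRingCat.of k)) = X ↘ Spec (CommRingCat.of k) ∧ σ ≫ σ = 𝟙 X ∧
      Nat.card {x : X // IsClosed ({x} : Set X) ∧ σ x = x} = 2 * Curv2.genus k X + 2 := by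
  classical
  obtain ⟨S, -⟩ := HypEq17.exists_dbl_of_doubleCover h2 hdim hg f hf hr
  obtain ⟨hK, hgen⟩ := GenusFF17.genus_functionField hdim (VB17.h0_one_of_smooth (k := k) (X := X))
  have hc : ringChar k ≠ 2 := fun h => h2 (by
    haveI := ringChar.of_eq h
    exact CharP.cast_eq_zero k 2)
  have hsqf : Squarefree S.F := by
    rintro p ⟨E, hE⟩
    rcases eq_or_ne p 0 with rfl | hp
    · have := S.le_deg
      rw [hE, zero_mul, zero_mul, Polynomial.natDegree_zero] at this
      omega
    exact isUnit_of_dvd_one (S.red 1 p E (by rw [hE]; ring))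
  have hmemT : ∀ r : Polynomial k, Polynomial.aeval S.t r ∈ IntermediateField.adjoin k ({S.t, S.y} : Set X.functionField) :=
    fun r => IntermediateField.adjoin.mono k {S.t} _ (by simp)
      (IntermediateField.algebra_adjoin_le_adjoin k _ (Polynomial.aeval_mem_adjoin_singleton k S.t))
  have hxy : IntermediateField.adjoin k ({S.t, S.y} : Set X.functionField) = ⊤ := eq_top_iff.2 fun z _ => by
    obtain ⟨p, q, d, hd, hz⟩ := S.gen z
    rw [eq_div_of_mul_eq (fun h => hd (S.inj h)) hz]
    exact div_mem (add_mem (hmemT p) (mul_mem (hmemT q) (IntermediateField.subset_adjoin k _ (by simp)))) (hmemT d)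
  have H := FunField.Hyp.of_adjoin hc (transcendental_iff.2 fun p hp => S.inj hp) hxy hsqf
    (by have := S.le_deg; omega) S.sq
  have hθ1 : H.conj ≠ AlgEquiv.refl := fun h => H.y_ne_zero (by
    have h1 := H.conj_y
    rw [h, AlgEquiv.coe_refl, id, eq_neg_iff_add_eq_zero, ← two_mul] at h1
    refine (mul_eq_zero.1 h1).resolve_left fun h0 => h2 ?_
    exact (algebraMap k X.functionField).injective (by rw [map_ofNat, map_zero]; exact h0))
  obtain ⟨σ, e, hσp, hσg⟩ := Curve17.exists_hom_of_functionField (X ↘ Spec (CommRingCat.of k))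
    (X ↘ Spec (CommRingCat.of k))
    (fun y => Curve17.valuationRing_stalk_of_normal (X ↘ Spec (CommRingCat.of k)) hdim
      (fun z => SmoothReg17.isIntegrallyClosed_stalk (X ↘ Spec (CommRingCat.of k)) z) y)
    (CommRingCat.ofHom (H.conj : X.functionField →+* X.functionField)) (by
      ext c
      exact H.conj.commutes c)
  have hθ : ∀ z, H.conj z = (Curve17.genMap σ e).hom z := fun z => by rw [hσg]; rfl
  have e2 : (σ ≫ σ) (genericPoint X) = genericPoint X := by rw [Scheme.Hom.comp_apply, e, e]
  have hσ2p : (σ ≫ σ) ≫ (X ↘ Spec (CommRingCat.of k)) = X ↘ Spec (CommRingCat.of k) := by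
    rw [Category.assoc, hσp, hσp]
  have hσ2 : σ ≫ σ = 𝟙 X := by
    refine HypEq17.eq_of_endo_eq e2 rfl hσ2p (Category.id_comp _) ?_
    refine (AlgHom.ext fun z => ?_ : _ = AlgHom.id k X.functionField).trans (HypEq17.endo_id _ _).symm
    show (Curve17.genMap (σ ≫ σ) e2).hom z = z
    refine (ConcreteCategory.congr_hom (endo_comp σ σ e e e2) z).trans ?_
    show (Curve17.genMap σ e).hom ((Curve17.genMap σ e).hom z) = z
    rw [← hθ, ← hθ, H.conj_conj]
  refine ⟨σ, hσp, hσ2, ?_⟩
  rw [← card_fixed hdim σ hσp e H.conj hθ, ← hgen]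
  exact card_of_coord H.conj_conj h2 hθ1 hK H.conj_x H.tr H.finrank_two

end Groth.Agent.InvolFF17
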