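import Groth.Agent.Lib.InvolFF17.Main
import Groth.Agent.Lib.HypEq17.Inv
import Groth.Agent.Lib.LocSymB.FunFieldPlaces

/-!
# Fixed points of an involution of a curve and fixed places of its function field
-/

set_option linter.style.haveILetI false
set_option autoImplicit false
set_option maxHeartbeats 800000

universe u

open CategoryTheory CategoryTheory.Limits AlgebraicGeometry TopologicalSpace WithZero

namespace Groth.Agent.InvolFF17

attribute [local instance] Curv2.stalkAlgebra

variable {k : Type u} [Field k] {X : Scheme.{u}} [X.Over (Spec (CommRingCat.of k))] [IsIntegral X]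

/-- An involution over `k` fixes the generic point. -/
theorem map_genericPoint_of_invol (σ : X ⟶ X) (hσ : σ ≫ σ = 𝟙 X) : σ (genericPoint X) = genericPoint X := by
  haveI : IsIso σ := ⟨σ, hσ, hσ⟩
  have h1 : ∀ x, σ (σ x) = x := fun x => by rw [← Scheme.Hom.comp_apply, hσ]; rfl
  have hsp : genericPoint X ⤳ σ (genericPoint X) := genericPoint_specializes _
  have hsp' := hsp.map σ.continuous
  rw [h1] at hsp'
  exact (hsp.antisymm hsp').eq.symm

theorem endo_comp (σ τ : X ⟶ X) (e : σ (genericPoint X) = genericPoint X)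
    (e' : τ (genericPoint X) = genericPoint X) (e'' : (σ ≫ τ) (genericPoint X) = genericPoint X) :
    Curve17.genMap (σ ≫ τ) e'' = Curve17.genMap τ e' ≫ Curve17.genMap σ e := by
  apply Spec.map_injective
  rw [← cancel_mono (X.fromSpecStalk (genericPoint X)), Spec.map_comp, Category.assoc,
    ← HypEq17.fromSpecStalk_comp (σ ≫ τ) e'', ← HypEq17.fromSpecStalk_comp τ e', ← Category.assoc,
    HypEq17.fromSpecStalk_comp σ e, Category.assoc]

variable [IsProper (X ↘ Spec (CommRingCat.of k))]

/-- The automorphism of the function field of an involution. -/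
theorem exists_auto (σ : X ⟶ X) (hσp : σ ≫ (X ↘ Spec (CommRingCat.of k)) = X ↘ Spec (CommRingCat.of k))
    (hσ : σ ≫ σ = 𝟙 X) :
    ∃ θ : X.functionField ≃ₐ[k] X.functionField, (∀ z, θ (θ z) = z) ∧
      (θ = AlgEquiv.refl → σ = 𝟙 X) ∧
      ∀ z, θ z = (Curve17.genMap σ (map_genericPoint_of_invol σ hσ)).hom z := by
  have e := map_genericPoint_of_invol σ hσ
  have hinv : ∀ z, HypEq17.endo σ e hσp (HypEq17.endo σ e hσp z) = z := fun z => by
    have e'' : (σ ≫ σ) (genericPoint X) = genericPoint X := by rw [Scheme.Hom.comp_apply, e, e]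
    have h1 := ConcreteCategory.congr_hom (endo_comp σ σ e e e'') z
    rw [CommRingCat.comp_apply] at h1
    refine h1.symm.trans ?_
    have h2 : ∀ (τ : X ⟶ X) (hτ : τ = 𝟙 X) (eτ : τ (genericPoint X) = genericPoint X),
        (Curve17.genMap τ eτ).hom z = z := by
      rintro τ rfl eτ
      exact AlgHom.congr_fun (HypEq17.endo_id (k := k) eτ (Category.id_comp _)) z
    exact h2 _ hσ e''
  refine ⟨AlgEquiv.ofAlgHom (HypEq17.endo σ e hσp) (HypEq17.endo σ e hσp) (AlgHom.ext hinv) (AlgHom.ext hinv),
    hinv, fun h => ?_, fun z => rfl⟩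
  refine HypEq17.eq_of_endo_eq e rfl hσp (Category.id_comp _) ?_
  refine (AlgHom.ext fun z => ?_ : _ = AlgHom.id k X.functionField).trans (HypEq17.endo_id _ _).symm
  exact AlgEquiv.congr_fun h z

variable [IsAlgClosed k] [Smooth (X ↘ Spec (CommRingCat.of k))]

/-- Fixed closed points correspond to fixed places. -/
theorem card_fixed (hdim : topologicalKrullDim X = 1) (σ : X ⟶ X)
    (hσp : σ ≫ (X ↘ Spec (CommRingCat.of k)) = X ↘ Spec (CommRingCat.of k))
    (e : σ (genericPoint X) = genericPoint X) (θ : X.functionField ≃ₐ[k] X.functionField)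
    (hθ : ∀ z, θ z = (Curve17.genMap σ e).hom z) :
    Nat.card (Fixed θ) = Nat.card {x : X // IsClosed ({x} : Set X) ∧ σ x = x} := by
  let c := X ↘ Spec (CommRingCat.of k)
  let Q : LocSym.Pt c → FunFld.Place k X.functionField := LocSymB.place (c := c) hdim
  have hQi : Function.Injective Q := fun x y h => LocSymB.place_injective hdim (congrArg Subtype.val h)
  have hQs : Function.Surjective Q := LocSymB.place_surjective (c := c) hdim
  let act : LocSym.Pt c → LocSym.Pt c := fun x => ⟨x.1 ≫ σ, by rw [Category.assoc, hσp]; exact x.2⟩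
  have hact : ∀ x, (act x).pt = σ x.pt := fun x => rfl
  have hmap : ∀ x, plMap θ (Q x) = Q (act x) := fun x => by
    refine (FunField.eq_of_O_le (fun z hz => ?_)).symm
    haveI := LocSymB.isDiscreteValuationRing_stalk hdim (act x)
    haveI := LocSymB.isDiscreteValuationRing_stalk hdim x
    obtain ⟨s, rfl⟩ := IsDiscreteValuationRing.exists_lift_of_le_one (A := X.presheaf.stalk (act x).pt) hz
    have key := ConcreteCategory.congr_hom (Curve17.stalkMap_comp_specializes σ e x.pt) s
    have hθs : θ (algebraMap (X.presheaf.stalk (act x).pt) X.functionField s) =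
        algebraMap (X.presheaf.stalk x.pt) X.functionField (σ.stalkMap x.pt s) := (hθ _).trans key.symm
    show (Q x).1 (θ _) ≤ 1
    rw [hθs]
    exact (IsDiscreteValuationRing.maximalIdeal _).valuation_le_one _
  have hiff : ∀ x, Q x ∈ Fixed θ ↔ σ x.pt = x.pt := fun x => by
    show plMap θ (Q x) = Q x ↔ _
    rw [hmap, hQi.eq_iff, ← hact]
    exact ⟨fun h => by rw [h], fun h => LocSymB.pt_injective h⟩
  let F : {x : LocSym.Pt c // σ x.pt = x.pt} → Fixed θ := fun x => ⟨Q x.1, (hiff x.1).2 x.2⟩
  let G : {x : LocSym.Pt c // σ x.pt = x.pt} → {x : X // IsClosed ({x} : Set X) ∧ σ x = x} :=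
    fun x => ⟨x.1.pt, LocSymB.isClosed_pt x.1, x.2⟩
  have hF : Function.Bijective F := ⟨fun a b h => Subtype.ext (hQi (congrArg Subtype.val h)), fun P => by
    obtain ⟨x, hx⟩ := hQs P.1
    exact ⟨⟨x, (hiff x).1 (by rw [hx]; exact P.2)⟩, Subtype.ext hx⟩⟩
  have hG : Function.Bijective G := ⟨fun a b h => Subtype.ext (LocSymB.pt_injective (congrArg Subtype.val h)), fun z => by
    obtain ⟨x, hx⟩ := LocSymB.exists_pt_of_isClosed (c := c) z.2.1
    exact ⟨⟨x, by rw [hx]; exact z.2.2⟩, Subtype.ext hx⟩⟩
  exact (Nat.card_eq_of_bijective F hF).symm.trans (Nat.card_eq_of_bijective G hG)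

end Groth.Agent.InvolFF17
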